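/- Fast tables for the Chevalley datum of type B2 (generated). -/
import Cfsg.Agent.Lib.Chev.Core
import Cfsg.Prelude.Def_ChevB2

set_option autoImplicit false

namespace CfsgLib.Chev.TB2

open Cfsg.Lie

/-- The chain rows. -/
def rows : Tr := .node (.node (.node (.leaf 0x1b000015000000000000000000000000000000) (.leaf 0x3d00000000000000000000001b000000)) (.node (.leaf 0x2b03d00002a00000000000000b01500000000000a000000) (.leaf 0x4200000004503300002e00000002d01d))) (.node (.node (.leaf 0x2503300000000002200d01d00000000000e000000000000) (.leaf 0x4600000004303b000000000000000026023013)) (.node (.leaf 0x35000000000000000000000013000000000000) (.leaf 0x3b000035000000)))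

/-- The coroot rows. -/
def corT : Tr := .node (.node (.node (.leaf 0x1ef) (.leaf 0x230)) (.node (.leaf 0x20f) (.leaf 0x251))) (.node (.node (.leaf 0x1cf) (.leaf 0x211)) (.node (.leaf 0x1f0) (.leaf 0x231)))

/-- The Cartan rows. -/
def carT : Tr := .node (.leaf 0x9424e93a0e) (.leaf 0x845f2745f0)

/-- The engine. -/
noncomputable def eng : Eng where
  l := 2
  n := 8
  neg := fun r => 7 - r
  cor := fun r i => Int.subNatNat (readField 5 (corT.get r) i) 16
  car := fun i r => Int.subNatNat (readField 5 (carT.get i) r) 16
  ent := fun r s => decEntry (readField 24 (rows.get r) s)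

theorem agree : Agree chevB2 eng := agree_of_check (by decide +kernel)

/-- The signed permutations. -/
def spT : Tr := .node (.leaf 0x48340a0f0082c0607) (.leaf 0x702c1807048080a00)

/-- The coefficient rows. -/
def coT : Tr := .node (.node (.node (.leaf 0x1ee) (.leaf 0x230)) (.node (.leaf 0x20f) (.leaf 0x231))) (.node (.node (.leaf 0x1ef) (.leaf 0x211)) (.node (.leaf 0x1f0) (.leaf 0x232)))

/-- Distances to the base roots. -/
def sdT : Tr := .node (.node (.node (.leaf 0x1000100010000) (.leaf 0x0)) (.node (.leaf 0x0) (.leaf 0x0))) (.node (.node (.leaf 0x100010001000000) (.leaf 0x0)) (.node (.leaf 0x0) (.leaf 0x0)))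

/-- Steps to the base pairs. -/
def ssT : Tr := .node (.node (.node (.leaf 0x1010100) (.leaf 0x0)) (.node (.leaf 0x0) (.leaf 0x0))) (.node (.node (.leaf 0x0) (.leaf 0x0)) (.node (.leaf 0x0) (.leaf 0x0)))

/-- Base pairs. -/
def sbT : Tr := .node (.node (.node (.leaf 0x2a) (.leaf 0x0)) (.node (.leaf 0x0) (.leaf 0x0))) (.node (.node (.leaf 0x15) (.leaf 0x0)) (.node (.leaf 0x0) (.leaf 0x0)))

/-- The certificate. -/
noncomputable def cert : Cert where
  E := eng
  simp := fun i => readField 8 0x405 i
  pi := fun i r => readField 8 (spT.get i >>> (9 * r + 1)) 0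
  sg := fun i r => if Nat.beq (readField 1 (spT.get i) (9 * r)) 0 then 1 else -1
  rdist := fun r => readField 8 0x303020201010000 r
  rstep := fun r => readField 4 0x1010100 r
  rbase := fun r => Nat.beq (readField 1 0x3 r) 1
  sdist := fun r s => readField 8 (sdT.get r) s
  sstep := fun r s => readField 4 (ssT.get r) s
  sbase := fun r s => Nat.beq (readField 1 (sbT.get r) s) 1
  coef := fun r j => Int.subNatNat (readField 5 (coT.get r) j) 16

theorem g1 : shapeChk cert.E = true := by decide +kernel
theorem g2 : simpleAll cert chevB2 = true := by decide +kernel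
theorem g3 : spAll cert chevB2 = true := by decide +kernel
theorem g4 : monoAll cert = true := by decide +kernel
theorem g5 : rootChk cert = true := by decide +kernel
theorem g6 : baseAll cert = true := by decide +kernel
theorem g7 : TermsOK chevB2 := termsOK_of_len agree.hlen (by decide +kernel)
theorem g8 : pairAll cert = true := by decide +kernel
theorem g9 : commAll cert = true := by decide +kernel
theorem g10 : coefChk cert = true := by decide +kernel
theorem g11 : coefBaseAll cert = true := by decide +kernel

/-- The datum of type B2 is certified. -/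
theorem good : Good chevB2 cert := Good.of_checks agree g1 g2 g3 g4 g5 g6 g7 g8 g9 g10 g11

end CfsgLib.Chev.TB2
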