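/- Fast tables for the Chevalley datum of type D4 (generated). -/
import Cfsg.Agent.Lib.Chev.Core
import Cfsg.Prelude.Def_ChevD4

set_option autoImplicit false

namespace CfsgLib.Chev.TD4

open Cfsg.Lie

/-- The chain rows. -/
def rows : Tr := .node (.node (.node (.node (.node (.leaf 0x5304d04503b00002d02301b015000000000000000000000000000000000000000000) (.leaf 0xc30000b500000000000000009300007b075000000065000000000033000025)) (.node (.leaf 0xb300000009d00000007300000006300005500003d00000000000002300000000d000000) (.leaf 0x0))) (.node (.node (.leaf 0x9300007306b00005300000000003500000002501d00000000000d000000000000000000) (.leaf 0xc50000000bb0000a300000009b00000008506d00000005d043)) (.node (.leaf 0xbd0000ad00000009500008500000000000000005300004300000002b00001b000) (.leaf 0x0)))) (.node (.node (.node (.leaf 0x8506b00000005b04300003500000002d00001500000000b000000000000000000000000) (.leaf 0xbb0b30ab0a300000000000000000000000000005504d04503d000)) (.node (.leaf 0xad0a500000000008507d00000000000000000004303b00000000001b013000000000) (.leaf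 0x0))) (.node (.node (.leaf 0xa509d00000000000000006305b00004d04500000000000000000001300b000000000000) (.leaf 0xc30000000b30ab00000000009b09500007506d000055)) (.node (.leaf 0xc50000000000a500000000000008b08300000000006505d000000033000000000013) (.leaf 0x0))))) (.node (.node (.node (.node (.leaf 0x7b00006305b00003b03500000000002501d00000000d000000000000000000000000000) (.leaf 0xc50bd00000000000000000008b08300007506d00000000000000003302b)) (.node (.leaf 0xbd00000000009d00000007306b00000000004d04500000000000002b00000000000b000) (.leaf 0x0))) (.node (.node (.leaf 0x9308b08307b00000000000000000000000000002d02501d015000000000000000000) (.leaf 0xc50000000bb0000a300000009b00008d07500000006504b)) (.node (.leaf 0xbd0b500000000009508d00000000000000000005304b00000000002b023000) (.leaf 0x0)))) (.node (.node (.node (.leaf 0x8d07300000006304b00000003500000002d00001500000000b000000000000000000000) (.leaf 0xc30000000000b30ab00000009b00000000007d00006505d00003d)) (.node (.leaf 0xb50000a500000008d00007d00000000000000004b00003b000000023000013000000) (.leaf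 0x0))) (.node (.node (.leaf 0xab00009d00000000006b00000005b05500003d00000000000000001b00000d000000000) (.leaf 0xbb0b50ad0a300009508b08307d000)) (.node (.leaf 0xc30000000ad00000000000009300007b00006d00000005d00000003300000001d) (.leaf 0x0)))))

/-- The coroot rows. -/
def corT : Tr := .node (.node (.node (.node (.node (.leaf 0x7bdcf) (.leaf 0x84630)) (.node (.leaf 0x7c1f0) (.leaf 0x0))) (.node (.node (.leaf 0x841ef) (.leaf 0x8c231)) (.node (.leaf 0x8c210) (.leaf 0x0)))) (.node (.node (.node (.leaf 0x83def) (.leaf 0x84211)) (.node (.leaf 0x83e10) (.leaf 0x0))) (.node (.node (.leaf 0x7bdf0) (.leaf 0x8c631)) (.node (.leaf 0x84230) (.leaf 0x0))))) (.node (.node (.node (.node (.leaf 0x7bdef) (.leaf 0x8c630)) (.node (.leaf 0x841f0) (.leaf 0x0))) (.node (.node (.leaf 0x8420f) (.leaf 0x84631)) (.node (.leaf 0x84610) (.leaf 0x0)))) (.node (.node (.node (.leaf 0x7c1ef) (.leaf 0x84231)) (.node (.leaf 0x7c210) (.leaf 0x0))) (.node (.node (.leaf 0x83df0) (.leaf 0x8c651)) (.node (.leaf 0x8c230) (.leaf 0x0)))))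

/-- The Cartan rows. -/
def carT : Tr := .node (.node (.leaf 0x846318c9ef7be10842318c5cf7bdf0) (.leaf 0x8462f7c2317be5083a317be118bdf0)) (.node (.leaf 0x8be108be118c9ef8c5cf7c22f8422f) (.leaf 0x845f17c22f8be127422f8be117c5f0))

/-- The engine. -/
noncomputable def eng : Eng where
  l := 4
  n := 24
  neg := fun r => 23 - r
  cor := fun r i => Int.subNatNat (readField 5 (corT.get r) i) 16
  car := fun i r => Int.subNatNat (readField 5 (carT.get i) r) 16
  ent := fun r s => decEntry (readField 12 (rows.get r) s)

theorem agree : Agree chevD4 eng := agree_of_check (by decide +kernel)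

/-- The signed permutations. -/
def spT : Tr := .node (.node (.leaf 0x17088401e0e02c5a2b1489c34180b05012070280c4a12080381800) (.leaf 0x170a44e2c150903e1d110802a180b06c1c0c098441404010240e00)) (.node (.leaf 0x168b8542812898441a0c04c421f0883c3a160a030100b030100003) (.leaf 0x170ac58271409042220e87834170c85020130603c1406048080a00))

/-- The coefficient rows. -/
def coT : Tr := .node (.node (.node (.node (.node (.leaf 0x7bdcf) (.leaf 0x84630)) (.node (.leaf 0x7c1f0) (.leaf 0x0))) (.node (.node (.leaf 0x841ef) (.leaf 0x8c231)) (.node (.leaf 0x8c210) (.leaf 0x0)))) (.node (.node (.node (.leaf 0x83def) (.leaf 0x84211)) (.node (.leaf 0x83e10) (.leaf 0x0))) (.node (.node (.leaf 0x7bdf0) (.leaf 0x8c631)) (.node (.leaf 0x84230) (.leaf 0x0))))) (.node (.node (.node (.node (.leaf 0x7bdef) (.leaf 0x8c630)) (.node (.leaf 0x841f0) (.leaf 0x0))) (.node (.node (.leaf 0x8420f) (.leaf 0x84631)) (.node (.leaf 0x84610) (.leaf 0x0)))) (.node (.node (.node (.leaf 0x7c1ef) (.leaf 0x84231)) (.node (.leaf 0x7c210) (.leaf 0x0))) (.node (.node (.leaf 0x83df0)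 (.leaf 0x8c651)) (.node (.leaf 0x8c230) (.leaf 0x0)))))

/-- Distances to the base roots. -/
def sdT : Tr := .node (.node (.node (.node (.node (.leaf 0x302020101020101000101000003020201000201010000) (.leaf 0x0)) (.node (.leaf 0x0) (.leaf 0x0))) (.node (.node (.leaf 0x0) (.leaf 0x0)) (.node (.leaf 0x0) (.leaf 0x0)))) (.node (.node (.node (.leaf 0x0) (.leaf 0x0)) (.node (.leaf 0x0) (.leaf 0x0))) (.node (.node (.leaf 0x0) (.leaf 0x0)) (.node (.leaf 0x0) (.leaf 0x0))))) (.node (.node (.node (.node (.leaf 0x0) (.leaf 0x0)) (.node (.leaf 0x0) (.leaf 0x0))) (.node (.node (.leaf 0x0) (.leaf 0x0)) (.node (.leaf 0x0) (.leaf 0x0)))) (.node (.node (.node (.leaf 0x0) (.leaf 0x0)) (.node (.leaf 0x0) (.leaf 0x0))) (.node (.node (.leaf 0x0) (.leaf 0x0)) (.node (.leaf 0x0) (.leaf 0x0)))))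

/-- Steps to the base pairs. -/
def ssT : Tr := .node (.node (.node (.node (.node (.leaf 0x32300323023003230032300) (.leaf 0x0)) (.node (.leaf 0x0) (.leaf 0x0))) (.node (.node (.leaf 0x0) (.leaf 0x0)) (.node (.leaf 0x0) (.leaf 0x0)))) (.node (.node (.node (.leaf 0x0) (.leaf 0x0)) (.node (.leaf 0x0) (.leaf 0x0))) (.node (.node (.leaf 0x0) (.leaf 0x0)) (.node (.leaf 0x0) (.leaf 0x0))))) (.node (.node (.node (.node (.leaf 0x0) (.leaf 0x0)) (.node (.leaf 0x0) (.leaf 0x0))) (.node (.node (.leaf 0x0) (.leaf 0x0)) (.node (.leaf 0x0) (.leaf 0x0)))) (.node (.node (.node (.leaf 0x0) (.leaf 0x0)) (.node (.leaf 0x0) (.leaf 0x0))) (.node (.node (.leaf 0x0) (.leaf 0x0)) (.node (.leaf 0x0) (.leaf 0x0)))))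

/-- Base pairs. -/
def sbT : Tr := .node (.node (.node (.node (.node (.leaf 0x4c22) (.leaf 0x0)) (.node (.leaf 0x0) (.leaf 0x0))) (.node (.node (.leaf 0x0) (.leaf 0x0)) (.node (.leaf 0x0) (.leaf 0x0)))) (.node (.node (.node (.leaf 0x0) (.leaf 0x0)) (.node (.leaf 0x0) (.leaf 0x0))) (.node (.node (.leaf 0x0) (.leaf 0x0)) (.node (.leaf 0x0) (.leaf 0x0))))) (.node (.node (.node (.node (.leaf 0x0) (.leaf 0x0)) (.node (.leaf 0x0) (.leaf 0x0))) (.node (.node (.leaf 0x0) (.leaf 0x0)) (.node (.leaf 0x0) (.leaf 0x0)))) (.node (.node (.node (.leaf 0x0) (.leaf 0x0)) (.node (.leaf 0x0) (.leaf 0x0))) (.node (.node (.leaf 0x0) (.leaf 0x0)) (.node (.leaf 0x0) (.leaf 0x0)))))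

/-- The certificate. -/
noncomputable def cert : Cert where
  E := eng
  simp := fun i => readField 8 0xc0d0e12 i
  pi := fun i r => readField 8 (spT.get i >>> (9 * r + 1)) 0
  sg := fun i r => if Nat.beq (readField 1 (spT.get i) (9 * r)) 0 then 1 else -1
  rdist := fun r => readField 8 0x90807070605070606050505040404030302040302020100 r
  rstep := fun r => readField 4 0x122000221123113230132310 r
  rbase := fun r => Nat.beq (readField 1 0x1 r) 1
  sdist := fun r s => readField 8 (sdT.get r) s
  sstep := fun r s => readField 4 (ssT.get r) s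
  sbase := fun r s => Nat.beq (readField 1 (sbT.get r) s) 1
  coef := fun r j => Int.subNatNat (readField 5 (coT.get r) j) 16

theorem g1 : shapeChk cert.E = true := by decide +kernel
theorem g2 : simpleAll cert chevD4 = true := by decide +kernel
theorem g3 : spAll cert chevD4 = true := by decide +kernel
theorem g4 : monoAll cert = true := by decide +kernel
theorem g5 : rootChk cert = true := by decide +kernel
theorem g6 : baseAll cert = true := by decide +kernel
theorem g7 : TermsOK chevD4 := termsOK_of_len agree.hlen (by decide +kernel)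
theorem g8 : pairAll cert = true := by decide +kernel
theorem g9 : commAll cert = true := by decide +kernel
theorem g10 : coefChk cert = true := by decide +kernel
theorem g11 : coefBaseAll cert = true := by decide +kernel

/-- The datum of type D4 is certified. -/
theorem good : Good chevD4 cert := Good.of_checks agree g1 g2 g3 g4 g5 g6 g7 g8 g9 g10 g11

end CfsgLib.Chev.TD4
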