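/- Fast tables for the Chevalley datum of type G2 (generated). -/
import Cfsg.Agent.Lib.Chev.Core
import Cfsg.Prelude.Def_ChevG2

set_option autoImplicit false

namespace CfsgLib.Chev.TG2

open Cfsg.Lie

/-- The chain rows. -/
def rows : Tr := .node (.node (.node (.node (.leaf 0x3300000002300000001d000000000000000015000000000000000000000000000000000000000000000000000000) (.leaf 0x6700000000000006705600000000006305304300000003f00000000000003902a00000000003d02d01b)) (.node (.leaf 0x3d04b05500003f04a00000003900000000000000000001301d02500000000000001101e000000011000000000000000000) (.leaf 0x0))) (.node (.node (.leaf 0x1302b04b00d02504300000000000001702e00000902200000000000000000000000001700000000f000000000000000000000000000) (.leaf 0x63000000000000000053000000000000000045000000000000000035)) (.node (.leaf 0x6500000000000000000000000004d00000000000000000000000000000000002b000000000000000000000000013) (.leaf 0x0)))) (.node (.node (.node (.leaf 0x3b00000000000000002b00000000000000001d00000000000000000d000000000000000000000000000000000000000000000) (.leaf 0x6100000005900000000000000000000006104e00005f04200000000006304d02d05d043025))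 (.node (.leaf 0x5d00000000000000000000000004500000000000000000000000000000000002300000000000000000000000000b000000000) (.leaf 0x0))) (.node (.node (.leaf 0x3304505500000000000003104600000000000000003100d01b02d00000000000000f01a000000000000000009000000000000000000) (.leaf 0x5b00000000000000005300000004d00000003d000000000)) (.node (.leaf 0x5f00005905200000000005d05504b00000000000000000000000003700003702603302301b000000000) (.leaf 0x0))))

/-- The coroot rows. -/
def corT : Tr := .node (.node (.node (.node (.leaf 0x1cf) (.leaf 0x271)) (.node (.leaf 0x20f) (.leaf 0x0))) (.node (.node (.leaf 0x1ae) (.leaf 0x231)) (.node (.leaf 0x230) (.leaf 0x0)))) (.node (.node (.node (.leaf 0x1ef) (.leaf 0x272)) (.node (.leaf 0x1f0) (.leaf 0x0))) (.node (.node (.leaf 0x1af) (.leaf 0x251)) (.node (.leaf 0x211) (.leaf 0x0))))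

/-- The Cartan rows. -/
def carT : Tr := .node (.leaf 0x84e2f9366e8bdb0) (.leaf 0x8be117c9d17c22f)

/-- The engine. -/
noncomputable def eng : Eng where
  l := 2
  n := 12
  neg := fun r => 11 - r
  cor := fun r i => Int.subNatNat (readField 5 (corT.get r) i) 16
  car := fun i r => Int.subNatNat (readField 5 (carT.get i) r) 16
  ent := fun r s => decEntry (readField 36 (rows.get r) s)

theorem agree : Agree chevG2 eng := agree_of_check (by decide +kernel)

/-- The signed permutations. -/
def spT : Tr := .node (.leaf 0xb034221204850040f0201c1600) (.leaf 0xa858240f0802c1a06048100003)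

/-- The coefficient rows. -/
def coT : Tr := .node (.node (.node (.node (.leaf 0x1cd) (.leaf 0x231)) (.node (.leaf 0x20f) (.leaf 0x0))) (.node (.node (.leaf 0x1ee) (.leaf 0x233)) (.node (.leaf 0x230) (.leaf 0x0)))) (.node (.node (.node (.leaf 0x1ed) (.leaf 0x232)) (.node (.leaf 0x1f0) (.leaf 0x0))) (.node (.node (.leaf 0x1ef) (.leaf 0x253)) (.node (.leaf 0x211) (.leaf 0x0))))

/-- Distances to the base roots. -/
def sdT : Tr := .node (.node (.node (.node (.leaf 0x101000100010001000000) (.leaf 0x0)) (.node (.leaf 0x0) (.leaf 0x0))) (.node (.node (.leaf 0x10000010001000100000100) (.leaf 0x0)) (.node (.leaf 0x0) (.leaf 0x0)))) (.node (.node (.node (.leaf 0x0) (.leaf 0x0)) (.node (.leaf 0x0) (.leaf 0x0))) (.node (.node (.leaf 0x0) (.leaf 0x0)) (.node (.leaf 0x0) (.leaf 0x0))))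

/-- Steps to the base pairs. -/
def ssT : Tr := .node (.node (.node (.node (.leaf 0x0) (.leaf 0x0)) (.node (.leaf 0x0) (.leaf 0x0))) (.node (.node (.leaf 0x100101010010) (.leaf 0x0)) (.node (.leaf 0x0) (.leaf 0x0)))) (.node (.node (.node (.leaf 0x0) (.leaf 0x0)) (.node (.leaf 0x0) (.leaf 0x0))) (.node (.node (.leaf 0x0) (.leaf 0x0)) (.node (.leaf 0x0) (.leaf 0x0))))

/-- Base pairs. -/
def sbT : Tr := .node (.node (.node (.node (.leaf 0x156) (.leaf 0x0)) (.node (.leaf 0x0) (.leaf 0x0))) (.node (.node (.leaf 0x4a9) (.leaf 0x0)) (.node (.leaf 0x0) (.leaf 0x0)))) (.node (.node (.node (.leaf 0x0) (.leaf 0x0)) (.node (.leaf 0x0) (.leaf 0x0))) (.node (.node (.leaf 0x0) (.leaf 0x0)) (.node (.leaf 0x0) (.leaf 0x0))))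

/-- The certificate. -/
noncomputable def cert : Cert where
  E := eng
  simp := fun i => readField 8 0x607 i
  pi := fun i r => readField 8 (spT.get i >>> (9 * r + 1)) 0
  sg := fun i r => if Nat.beq (readField 1 (spT.get i) (9 * r)) 0 then 1 else -1
  rdist := fun r => readField 8 0x50405040303020201000100 r
  rstep := fun r => readField 4 0x100101010010 r
  rbase := fun r => Nat.beq (readField 1 0x5 r) 1
  sdist := fun r s => readField 8 (sdT.get r) s
  sstep := fun r s => readField 4 (ssT.get r) s
  sbase := fun r s => Nat.beq (readField 1 (sbT.get r) s) 1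
  coef := fun r j => Int.subNatNat (readField 5 (coT.get r) j) 16

theorem g1 : shapeChk cert.E = true := by decide +kernel
theorem g2 : simpleAll cert chevG2 = true := by decide +kernel
theorem g3 : spAll cert chevG2 = true := by decide +kernel
theorem g4 : monoAll cert = true := by decide +kernel
theorem g5 : rootChk cert = true := by decide +kernel
theorem g6 : baseAll cert = true := by decide +kernel
theorem g7 : TermsOK chevG2 := termsOK_of_chk (by decide +kernel)
theorem g8 : pairAll cert = true := by decide +kernel
theorem g9 : commAll cert = true := by decide +kernel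
theorem g10 : coefChk cert = true := by decide +kernel
theorem g11 : coefBaseAll cert = true := by decide +kernel

/-- The datum of type G2 is certified. -/
theorem good : Good chevG2 cert := Good.of_checks agree g1 g2 g3 g4 g5 g6 g7 g8 g9 g10 g11

end CfsgLib.Chev.TG2
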